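import Cfsg.Agent.U3M.A

set_option autoImplicit false

namespace Cfsg.Agent.U3M

open Subgroup MulAction

theorem cnt_ef {G Ω : Type*} [Group G] [MulAction G Ω] (H : Subgroup G) {g : G} (hg : g ∈ H)
    (x : Ω) (j : ℕ) :
    Set.ncard {h : G | (h ∈ H ∧ h • (g • x) = g • x) ∧ Set.ncard {y : Ω | h • y = y} ≤ j} =
      ef Ω (H ⊓ stabilizer G x) j := by
  unfold ef
  symm
  refine Set.ncard_congr (fun h _ => g * h * g⁻¹) ?_ ?_ ?_
  · rintro h ⟨⟨h1, h2⟩, h3⟩
    refine ⟨⟨mul_mem (mul_mem hg h1) (inv_mem hg), ?_⟩, ?_⟩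
    · have : h • x = x := h2
      simp only [mul_smul, inv_smul_smul, this]
    · refine le_trans (le_of_eq ?_) h3
      refine Set.ncard_congr (fun y _ => g⁻¹ • y) ?_ ?_ ?_
      · intro y hy
        have : (g * h * g⁻¹) • y = y := hy
        show h • g⁻¹ • y = g⁻¹ • y
        conv_rhs => rw [← this]
        simp only [mul_smul, inv_smul_smul]
      · intro a b _ _ e
        exact smul_left_cancel g⁻¹ e
      · intro y hy
        have : h • y = y := hy
        refine ⟨g • y, ?_, inv_smul_smul g y⟩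
        show (g * h * g⁻¹) • g • y = g • y
        simp only [mul_smul, inv_smul_smul, this]
  · intro a b _ _ e
    simpa using e
  · rintro h ⟨⟨h1, h2⟩, h3⟩
    refine ⟨g⁻¹ * h * g, ⟨⟨H.mul_mem (H.mul_mem (H.inv_mem hg) h1) hg, ?_⟩, ?_⟩, by group⟩
    · show (g⁻¹ * h * g) • x = x
      simp only [mul_smul, h2, inv_smul_smul]
    · refine le_trans (le_of_eq ?_) h3
      refine Set.ncard_congr (fun y _ => g • y) ?_ ?_ ?_
      · intro y hy
        have : (g⁻¹ * h * g) • y = y := hy
        show h • g • y = g • y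
        conv_rhs => rw [← this]
        simp only [mul_smul, smul_inv_smul]
      · intro a b _ _ e
        exact smul_left_cancel g e
      · intro y hy
        have : h • y = y := hy
        refine ⟨g⁻¹ • y, ?_, smul_inv_smul g y⟩
        show (g⁻¹ * h * g) • g⁻¹ • y = g⁻¹ • y
        simp only [mul_smul, smul_inv_smul, this]

theorem cnt_sum {G Ω : Type*} [Group G] [Fintype G] [MulAction G Ω] [Fintype Ω] (H : Subgroup G)
    (h : IsPretransitive H Ω) (x : Ω) (j : ℕ) :
    Nat.card Ω * ef Ω (H ⊓ stabilizer G x) j =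
      ∑ g : G, open Classical in
        if g ∈ H ∧ Set.ncard {y : Ω | g • y = y} ≤ j then Set.ncard {y : Ω | g • y = y} else 0 := by
  classical
  have e1 : ∀ y : Ω, ef Ω (H ⊓ stabilizer G x) j =
      ∑ g : G, if (g ∈ H ∧ g • y = y) ∧ Set.ncard {y : Ω | g • y = y} ≤ j then 1 else 0 := by
    intro y
    obtain ⟨g, rfl⟩ := h.exists_smul_eq x y
    have := cnt_ef H g.2 x j
    rw [← this, ← Finset.card_filter, ← Set.ncard_coe_finset]
    congr 1
    ext a
    simp [Subgroup.smul_def]
  have e2 : Nat.card Ω * ef Ω (H ⊓ stabilizer G x) j = ∑ _y : Ω, ef Ω (H ⊓ stabilizer G x) j := by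
    simp
  rw [e2, Finset.sum_congr rfl fun y _ => e1 y, Finset.sum_comm]
  refine Finset.sum_congr rfl fun g _ => ?_
  split_ifs with c
  · rw [← Finset.card_filter, ← Set.ncard_coe_finset]
    congr 1
    ext y
    simp [c.1, c.2]
  · refine Finset.sum_eq_zero fun y _ => if_neg fun d => c ⟨d.1.1, d.2⟩

/-- Double counting of pairs `(y, h)`, `h • y = y`, `h` with at most `j = 1, 2` fixed points. -/
theorem cnt {G Ω : Type*} [Group G] [Finite G] [MulAction G Ω] [Finite Ω] (H : Subgroup G) (h : IsPretransitive H Ω)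
    (x : Ω) : Nat.card Ω * (ef Ω (H ⊓ stabilizer G x) 1 + ef Ω (H ⊓ stabilizer G x) 2) ≤ 2 * nd Ω H := by
  classical
  haveI := Fintype.ofFinite G
  haveI := Fintype.ofFinite Ω
  have e : nd Ω H = ∑ g : G, if g ∈ H ∧ ∃ y : Ω, g • y = y then 1 else 0 := by
    unfold nd
    rw [← Finset.card_filter, ← Set.ncard_coe_finset]
    congr 1
    ext a
    simp
  rw [mul_add, cnt_sum H h x 1, cnt_sum H h x 2, e, Finset.mul_sum, ← Finset.sum_add_distrib]
  refine Finset.sum_le_sum fun g _ => ?_
  by_cases c : g ∈ H ∧ ∃ y : Ω, g • y = y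
  · rw [if_pos c]
    split_ifs with c1 c2 c2
    · have := c1.2; omega
    · have := c1.2; omega
    · have := c2.2; omega
    · omega
  · by_cases hg : g ∈ H
    · have : {y : Ω | g • y = y} = ∅ := Set.eq_empty_of_forall_notMem fun y hy => c ⟨hg, y, hy⟩
      simp [this]
    · simp [hg]

end Cfsg.Agent.U3M
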